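import Groth.Agent.GenAff57.Basic

/-! Loci of generation in universally closed schemes with ample modules. -/

set_option autoImplicit false
set_option backward.isDefEq.respectTransparency.types false
set_option linter.style.haveILetI false
universe u
open CategoryTheory CategoryTheory.Limits AlgebraicGeometry TopologicalSpace Opposite

noncomputable section

namespace Groth.Agent.GenAff57

open Var76.LineBundle Var76.ZeroScheme Amp73

variable {X S : Scheme.{u}}

theorem isAffineOpen_genLocus {V : Scheme.{u}} [IsAffine V] (f : X ⟶ V) [UniversallyClosed f]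
    {L : X.Modules} (hL : CohB1.IsAmple L) (s : Coh.structureModule X ⟶ L) :
    IsAffineOpen (CohB1.genLocus L s) := by
  have hinv := hL.1
  haveI := hL.2.1
  let W := CohB1.genLocus L s
  haveI : QuasiSeparatedSpace X := quasiSeparatedSpace_of_isAmple hL
  haveI := isAffineHom_genLocus_ι hinv s
  haveI : CompactSpace W.toScheme := QuasiCompact.compactSpace_of_compactSpace W.ι
  haveI : W.toScheme.IsQuasiAffine := by
    refine isQuasiAffine_of_isAmple ?_
    have h := isAmple_restrict hL W.ι
    haveI : IsIso ((Scheme.Modules.restrictFunctor W.ι).map s) :=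
      (isIso_restrict_map_iff s W).mpr (isFrame_genLocus s)
    exact isAmple_of_iso ((asIso ((Scheme.Modules.restrictFunctor W.ι).map s)).symm ≪≫
      Scheme.Modules.restrictUnitIso W.ι) h
  refine isAffineOpen_of_functions f W fun x hx => ?_
  obtain ⟨_, ⟨n, t, rfl⟩, hxG, -, -⟩ := exists_affine_genSet_le hL x ⊤ trivial
  let M := CohB1.tensorPow L (n + 1)
  let σ := SecTwist.powHom s (n + 1)
  let G := CohB1.genLocus M t
  have hσ : CohB1.genLocus M σ = W := genLocus_powHom hinv s (n + 1) n.succ_pos
  obtain ⟨b, hb⟩ := exists_coord σ (isFrame_genLocus t)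
  obtain ⟨c, hc⟩ := exists_coord t (hσ ▸ isFrame_genLocus σ : IsFrame M W (val M σ W))
  refine ⟨G, b, c, hxG, ?_, fun O hG hW => ?_⟩
  · rw [← genLocus_inf_eq_basicOpen σ (isFrame_genLocus t) hb]
    exact inf_le_left.trans hσ.le
  · have hO : IsFrame M O (val M σ O) := (isFrame_iff_le_genLocus σ O).mpr (hσ ▸ hW)
    have e1 := congrArg (res M hG) hb
    rw [res_smul, res_val, res_val] at e1
    have e2 := congrArg (res M hW) hc
    rw [res_smul, res_val, res_val] at e2
    refine (hO O le_rfl).1 ?_
    show (_ : Γ(X, O)) • res M le_rfl (val M σ O) = (1 : Γ(X, O)) • res M le_rfl (val M σ O)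
    rw [res_self, one_smul, mul_smul]
    exact (congrArg _ e2).trans e1

theorem isAffineHom_genLocus (f : X ⟶ S) [UniversallyClosed f] {L : X.Modules}
    (hL : RelAmple.IsRelAmple f L) (s : Coh.structureModule X ⟶ L) :
    IsAffineHom ((CohB1.genLocus L s).ι ≫ f) := by
  refine ⟨fun V hV => ?_⟩
  haveI : IsAffine (V : Scheme.{u}) := hV
  let a := (f ⁻¹ᵁ V).ι
  have hinv : PicF.IsInvertible L := Amp73.isInvertible_of_cover fun x => by
    obtain ⟨V', hV', hxV', -⟩ := exists_isAffineOpen_mem_and_subset (x := f x) (U := ⊤) trivial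
    exact ⟨_, (f ⁻¹ᵁ V').ι, inferInstance, ⟨⟨x, hxV'⟩, rfl⟩, (hL.2 ⟨V', hV'⟩).1⟩
  have h := isAffineOpen_genLocus (f ∣_ V) (hL.2 ⟨V, hV⟩) (restrHom a s)
  rw [genLocus_restrHom a hinv s] at h
  have h2 := h.image_of_isOpenImmersion a
  rw [Scheme.Hom.image_preimage_eq_opensRange_inf, Scheme.Opens.opensRange_ι] at h2
  have h3 := h2.preimage_of_isOpenImmersion (CohB1.genLocus L s).ι (by
    rw [Scheme.Opens.opensRange_ι]; exact inf_le_right)
  convert h3 using 1
  rw [Scheme.Hom.preimage_inf, Scheme.Opens.ι_preimage_self, inf_top_eq, Scheme.Hom.comp_preimage]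

end Groth.Agent.GenAff57
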