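import Groth.Agent.Amp73.QA
import Groth.Agent.Amp73.Avoid
import Groth.Agent.Ample57.Separated
import Groth.Agent.SchBasics.Closure
import Mathlib.AlgebraicGeometry.ValuativeCriterion

/-! Universally closed over affine with an ample module: loci of generation are affine. -/

set_option autoImplicit false
set_option backward.isDefEq.respectTransparency.types false
set_option linter.style.haveILetI false
universe u
open CategoryTheory CategoryTheory.Limits AlgebraicGeometry TopologicalSpace Opposite IsLocalRing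

noncomputable section

namespace Groth.Agent.GenAff57

open Var76.LineBundle Var76.ZeroScheme

variable {X : Scheme.{u}}

/-- An open `W` whose complement is locally cut out by functions invertible on `W` globally, in a
scheme universally closed over an affine one, is affine when it is quasi-affine. -/
theorem isAffineOpen_of_functions {V : Scheme.{u}} [IsAffine V] (f : X ⟶ V) [UniversallyClosed f]
    (W : X.Opens) [W.toScheme.IsQuasiAffine]
    (h : ∀ x : X, x ∉ W → ∃ (G : X.Opens) (b : Γ(X, G)) (c : Γ(X, W)), x ∈ G ∧ X.basicOpen b ≤ W ∧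
      ∀ O : X.Opens, ∀ (hG : O ≤ G) (hW : O ≤ W),
        X.presheaf.map (homOfLE hG).op b * X.presheaf.map (homOfLE hW).op c = 1) :
    IsAffineOpen W := by
  let W' := W.toScheme
  let j := W'.toSpecΓ
  haveI : IsOpenImmersion j := inferInstance
  haveI : QuasiCompact j := HasAffineProperty.iff_of_isAffine.mpr (inferInstance : CompactSpace W')
  suffices hs : Surjective j by
    haveI : IsIso j := isIso_iff_isOpenImmersion_and_surjective j |>.mpr ⟨inferInstance, hs⟩
    exact IsAffine.of_isIso j
  refine ⟨fun p => ?_⟩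
  obtain ⟨w, hw⟩ := SchBasics.exists_specializes_of_mem_closure_range j (y := p) (j.denseRange p)
  let K := W'.residueField w
  let φ : (Spec Γ(W', ⊤)).presheaf.stalk p →+* K :=
    ((Spec Γ(W', ⊤)).presheaf.stalkSpecializes hw ≫ j.stalkMap w ≫ W'.residue w).hom
  obtain ⟨A, hA, hloc⟩ := exists_factor_valuationRing φ
  let ψ : (Spec Γ(W', ⊤)).presheaf.stalk p →+* A := φ.codRestrict A.toSubring hA
  haveI : IsLocalHom ψ := hloc
  let T := Spec (CommRingCat.of A)
  let η : Spec K ⟶ T := Spec.map (CommRingCat.ofHom (algebraMap A K))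
  let c₂ : T ⟶ Spec Γ(W', ⊤) := Spec.map (CommRingCat.ofHom ψ) ≫ (Spec Γ(W', ⊤)).fromSpecStalk p
  have hc₂p : c₂ (closedPoint A) = p := by
    rw [Scheme.Hom.comp_apply, show Spec.map (CommRingCat.ofHom ψ) (closedPoint A) =
      closedPoint ((Spec Γ(W', ⊤)).presheaf.stalk p) from comap_closedPoint (S := A) ψ,
      Scheme.fromSpecStalk_closedPoint]
  have hc₂ : η ≫ c₂ = W'.fromSpecResidueField w ≫ j := by
    have e : CommRingCat.ofHom ψ ≫ CommRingCat.ofHom (algebraMap A K) =
        (Spec Γ(W', ⊤)).presheaf.stalkSpecializes hw ≫ j.stalkMap w ≫ W'.residue w := rfl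
    calc η ≫ c₂ = Spec.map (CommRingCat.ofHom ψ ≫ CommRingCat.ofHom (algebraMap A K)) ≫
          (Spec Γ(W', ⊤)).fromSpecStalk p := by
            simp only [η, c₂]
            refine (Category.assoc _ _ _).symm.trans (congrArg (· ≫ _) ?_)
            exact (Spec.map_comp _ _).symm
      _ = _ := by
            rw [e]
            simp only [Spec.map_comp, Category.assoc, Scheme.SpecMap_stalkSpecializes_fromSpecStalk,
              Scheme.SpecMap_stalkMap_fromSpecStalk, Scheme.fromSpecResidueField]
  -- the structure map extends to the affine hull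
  let r : Spec Γ(W', ⊤) ⟶ V := Spec.map ((W.ι ≫ f).appTop) ≫ V.isoSpec.inv
  have hr : j ≫ r = W.ι ≫ f := by
    rw [← cancel_mono V.isoSpec.hom]
    calc (j ≫ r) ≫ V.isoSpec.hom = j ≫ Spec.map ((W.ι ≫ f).appTop) := by simp [r]
      _ = (W.ι ≫ f) ≫ V.isoSpec.hom := (Scheme.toSpecΓ_naturality (W.ι ≫ f)).symm
  have w' : (W'.fromSpecResidueField w ≫ W.ι) ≫ f = η ≫ c₂ ≫ r := by
    rw [Category.assoc, ← hr, reassoc_of% hc₂]
  have hex : ValuativeCriterion.Existence f := by
    have := ‹UniversallyClosed f›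
    rw [UniversallyClosed.eq_valuativeCriterion] at this
    exact this.1
  let S : ValuativeCommSq f := { R := A, K := K, i₁ := W'.fromSpecResidueField w ≫ W.ι, i₂ := c₂ ≫ r, commSq := ⟨w'⟩ }
  obtain ⟨l, hl₁, hl₂⟩ := (hex S).exists_lift
  dsimp only [S] at hl₁ hl₂
  by_cases hx : l (closedPoint A) ∈ W
  · have hrange : Set.range l ⊆ Set.range W.ι := by
      rw [Scheme.Opens.range_ι]
      rintro _ ⟨z, rfl⟩
      exact ((specializes_closedPoint z).map l.continuous).mem_open W.2 hx
    let l' : T ⟶ W' := IsOpenImmersion.lift W.ι l hrange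
    have hl' : l' ≫ W.ι = l := IsOpenImmersion.lift_fac _ _ _
    haveI : IsReduced T := inferInstance
    haveI : IsDominant η := by
      refine ⟨?_⟩
      change DenseRange (PrimeSpectrum.comap (algebraMap A K))
      exact PrimeSpectrum.denseRange_comap_iff_ker_le_nilRadical _ |>.mpr
        (by rw [(RingHom.injective_iff_ker_eq_bot _).mp Subtype.val_injective]; exact bot_le)
    have hgen : η ≫ l' = W'.fromSpecResidueField w := by
      rw [← cancel_mono W.ι, Category.assoc, hl']
      exact hl₁
    have e : l' ≫ j = c₂ := ext_of_isDominant η (by rw [reassoc_of% hgen, hc₂])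
    exact ⟨l' (closedPoint A), by rw [← Scheme.Hom.comp_apply, e, hc₂p]⟩
  · exfalso
    obtain ⟨G, b, c, hxG, hbW, hbc⟩ := h _ hx
    have hrange : Set.range l ⊆ Set.range G.ι := by
      rw [Scheme.Opens.range_ι]
      rintro _ ⟨z, rfl⟩
      exact ((specializes_closedPoint z).map l.continuous).mem_open G.2 hxG
    let lG : T ⟶ G.toScheme := IsOpenImmersion.lift G.ι l hrange
    have hlG : lG ≫ G.ι = l := IsOpenImmersion.lift_fac _ _ _
    let β : Γ(T, ⊤) := lG.appTop (G.topIso.inv b)
    let γ : Γ(T, ⊤) := c₂.appTop ((Scheme.ΓSpecIso Γ(W', ⊤)).inv (W.topIso.inv c))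
    let gK : Spec K ⟶ W' := W'.fromSpecResidueField w
    have hgK : gK ≫ W.ι = (η ≫ lG) ≫ G.ι := by rw [Category.assoc, hlG]; exact hl₁.symm
    let O : X.Opens := G ⊓ W
    have hO : Set.range (gK ≫ W.ι) ⊆ Set.range O.ι := by
      rw [Scheme.Opens.range_ι]
      rintro _ ⟨z, rfl⟩
      refine ⟨?_, ?_⟩
      · rw [hgK, Scheme.Hom.comp_apply]; exact ((η ≫ lG) z).2
      · rw [Scheme.Hom.comp_apply]; exact (gK z).2
    let gO : Spec K ⟶ O.toScheme := IsOpenImmersion.lift O.ι _ hO
    have hgO : gO ≫ O.ι = gK ≫ W.ι := IsOpenImmersion.lift_fac _ _ _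
    have hG' : gO ≫ X.homOfLE (inf_le_left : O ≤ G) = η ≫ lG := by
      rw [← cancel_mono G.ι, Category.assoc, Scheme.homOfLE_ι, hgO, hgK]
    have hW' : gO ≫ X.homOfLE (inf_le_right : O ≤ W) = gK := by
      rw [← cancel_mono W.ι, Category.assoc, Scheme.homOfLE_ι, hgO]
    have hres : ∀ (U : X.Opens) (hU : O ≤ U) (a : Γ(X, U)),
        (X.homOfLE hU).appTop (U.topIso.inv a) = O.topIso.inv (X.presheaf.map (homOfLE hU).op a) :=
      fun U hU a => by
        rw [← CommRingCat.comp_apply, ← CommRingCat.comp_apply]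
        congr 1
        simp [Scheme.Opens.topIso_inv]
        exact congrArg CommRingCat.Hom.hom ((X.presheaf.map_comp _ _).symm.trans
          ((congrArg X.presheaf.map (Subsingleton.elim _ _)).trans (X.presheaf.map_comp _ _)))
    have h1 : η.appTop β = gO.appTop (O.topIso.inv (X.presheaf.map (homOfLE inf_le_left).op b)) := by
      rw [← hres]
      change (lG.appTop ≫ η.appTop) (G.topIso.inv b) =
        ((X.homOfLE (inf_le_left : O ≤ G)).appTop ≫ gO.appTop) (G.topIso.inv b)
      rw [← Scheme.Hom.comp_appTop, ← Scheme.Hom.comp_appTop, hG']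
    have h2 : η.appTop γ = gO.appTop (O.topIso.inv (X.presheaf.map (homOfLE inf_le_right).op c)) := by
      rw [← hres]
      have e1 : c₂.appTop ≫ η.appTop = j.appTop ≫ gK.appTop := by
        rw [← Scheme.Hom.comp_appTop, ← Scheme.Hom.comp_appTop, hc₂]
      have e2 : j.appTop ((Scheme.ΓSpecIso Γ(W', ⊤)).inv (W.topIso.inv c)) = W.topIso.inv c := by
        have e3 : (Scheme.ΓSpecIso Γ(W', ⊤)).inv ≫ j.appTop = 𝟙 _ := by
          simp only [j, Scheme.toSpecΓ_appTop]; exact Iso.inv_hom_id _
        exact ConcreteCategory.congr_hom e3 (W.topIso.inv c)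
      change (c₂.appTop ≫ η.appTop) ((Scheme.ΓSpecIso Γ(W', ⊤)).inv (W.topIso.inv c)) =
        ((X.homOfLE (inf_le_right : O ≤ W)).appTop ≫ gO.appTop) (W.topIso.inv c)
      rw [e1, show (X.homOfLE (inf_le_right : O ≤ W)).appTop ≫ gO.appTop = gK.appTop by
        rw [← Scheme.Hom.comp_appTop, hW']]
      exact congrArg gK.appTop e2
    have hβ : β * γ = 1 := by
      have hinj : Function.Injective η.appTop := by
        intro a a' e
        apply (ConcreteCategory.bijective_of_isIso (Scheme.ΓSpecIso (CommRingCat.of A)).hom).1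
        apply Subtype.val_injective (p := fun z : K => z ∈ A.toSubring)
        have e' := congrArg (Scheme.ΓSpecIso K).hom e
        rw [← CommRingCat.comp_apply, ← CommRingCat.comp_apply] at e'
        erw [Scheme.ΓSpecIso_naturality] at e'
        exact e'
      apply hinj
      rw [map_mul, map_one, h1, h2, ← map_mul, ← map_mul, hbc O inf_le_left inf_le_right, map_one, map_one]
    have hu : IsUnit β := .of_mul_eq_one γ hβ
    have h3 : lG (closedPoint A) ∈ G.toScheme.basicOpen (G.topIso.inv b) := by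
      show closedPoint A ∈ lG ⁻¹ᵁ G.toScheme.basicOpen (G.topIso.inv b)
      rw [Scheme.preimage_basicOpen_top, Scheme.basicOpen_of_isUnit _ hu]
      trivial
    have h4 : l (closedPoint A) ∈ X.basicOpen b := by
      rw [← hlG, Scheme.Hom.comp_apply]
      rw [← G.ι_image_basicOpen_topIso_inv b]
      exact ⟨_, h3, rfl⟩
    exact hx (hbW h4)

end Groth.Agent.GenAff57
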